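import Mathlib

/-!
The number of classes of a quotient by a central subgroup, by Burnside's lemma.
-/

set_option autoImplicit false

namespace CfsgLib.FgsC.PSLClasses

variable {G : Type*} [Group G] {Z : Subgroup G}

/-- Translation of a class by a central element. -/
def zMul (hZ : Z ≤ Subgroup.center G) (z : Z) : ConjClasses G → ConjClasses G :=
  Quotient.map (fun a => (z : G) * a) fun a b h => by
    obtain ⟨c, hc⟩ := isConj_iff.1 h
    refine isConj_iff.2 ⟨c, ?_⟩
    rw [← hc, ← mul_assoc c, Subgroup.mem_center_iff.1 (hZ z.2) c, mul_assoc, mul_assoc, mul_assoc]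

theorem zMul_mk (hZ : Z ≤ Subgroup.center G) (z : Z) (a : G) :
    zMul hZ z (ConjClasses.mk a) = ConjClasses.mk ((z : G) * a) := rfl

/-- The action of a central subgroup on classes. -/
@[reducible]
def zAction (hZ : Z ≤ Subgroup.center G) : MulAction Z (ConjClasses G) where
  smul := zMul hZ
  one_smul x := by
    obtain ⟨a, rfl⟩ := ConjClasses.exists_rep x
    show zMul hZ 1 (ConjClasses.mk a) = _
    rw [zMul_mk, OneMemClass.coe_one, one_mul]
  mul_smul z w x := by
    obtain ⟨a, rfl⟩ := ConjClasses.exists_rep x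
    show zMul hZ (z * w) (ConjClasses.mk a) = zMul hZ z (zMul hZ w (ConjClasses.mk a))
    rw [zMul_mk, zMul_mk, zMul_mk, Subgroup.coe_mul, mul_assoc]

/-- Burnside's lemma for classes of a central quotient. -/
theorem card_mul_eq [Finite G] [Fintype Z] [Z.Normal] (hZ : Z ≤ Subgroup.center G) :
    Nat.card Z * Nat.card (ConjClasses (G ⧸ Z)) =
      ∑ z : Z, Nat.card {x : ConjClasses G // zMul hZ z x = x} := by
  classical
  letI := zAction hZ
  haveI := Fintype.ofFinite (ConjClasses G)
  let π : ConjClasses G → ConjClasses (G ⧸ Z) := ConjClasses.map (QuotientGroup.mk' Z)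
  have hπ : ∀ a : G, π (ConjClasses.mk a) = ConjClasses.mk (QuotientGroup.mk' Z a) := fun a => rfl
  have hone : ∀ z : Z, QuotientGroup.mk' Z (z : G) = 1 := fun z => (QuotientGroup.eq_one_iff _).2 z.2
  let f : MulAction.orbitRel.Quotient Z (ConjClasses G) → ConjClasses (G ⧸ Z) :=
    fun o => Quotient.liftOn' o π fun x y h => by
      obtain ⟨z, rfl⟩ := h
      obtain ⟨a, rfl⟩ := ConjClasses.exists_rep y
      show π (zMul hZ z (ConjClasses.mk a)) = _
      rw [zMul_mk, hπ, hπ, map_mul, hone, one_mul]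
  have hf : Function.Bijective f := by
    constructor
    · intro o o'
      induction o using Quotient.inductionOn' with | _ x => ?_
      induction o' using Quotient.inductionOn' with | _ y => ?_
      intro h
      obtain ⟨a, rfl⟩ := ConjClasses.exists_rep x
      obtain ⟨b, rfl⟩ := ConjClasses.exists_rep y
      change π (ConjClasses.mk a) = π (ConjClasses.mk b) at h
      rw [hπ, hπ, ConjClasses.mk_eq_mk_iff_isConj] at h
      obtain ⟨c, hc⟩ := isConj_iff.1 h
      obtain ⟨c, rfl⟩ := QuotientGroup.mk'_surjective Z c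
      rw [← map_mul, ← map_inv, ← map_mul] at hc
      have hz : (c * a * c⁻¹)⁻¹ * b ∈ Z := QuotientGroup.eq.1 hc
      refine (Quotient.sound' ?_).symm
      refine ⟨⟨_, hz⟩, ?_⟩
      show zMul hZ _ (ConjClasses.mk a) = ConjClasses.mk b
      rw [zMul_mk, ConjClasses.mk_eq_mk_iff_isConj, isConj_iff]
      refine ⟨c, ?_⟩
      have hcen := Subgroup.mem_center_iff.1 (hZ hz)
      calc c * ((c * a * c⁻¹)⁻¹ * b * a) * c⁻¹ = ((c * a * c⁻¹)⁻¹ * b) * (c * a * c⁻¹) := by
            rw [← mul_assoc c, hcen c, mul_assoc ((c * a * c⁻¹)⁻¹ * b) c a, mul_assoc]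
        _ = (c * a * c⁻¹) * ((c * a * c⁻¹)⁻¹ * b) := (hcen _).symm
        _ = b := mul_inv_cancel_left _ _
    · intro x
      obtain ⟨a, rfl⟩ := ConjClasses.exists_rep x
      obtain ⟨a, rfl⟩ := QuotientGroup.mk'_surjective Z a
      exact ⟨Quotient.mk'' (ConjClasses.mk a), rfl⟩
  haveI := Fintype.ofFinite (MulAction.orbitRel.Quotient Z (ConjClasses G))
  have h := MulAction.sum_card_fixedBy_eq_card_orbits_mul_card_group Z (ConjClasses G)
  rw [← Nat.card_congr (Equiv.ofBijective f hf), mul_comm, Nat.card_eq_fintype_card,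
    Nat.card_eq_fintype_card]
  refine h.symm.trans (Finset.sum_congr rfl fun z _ => ?_)
  rw [← Nat.card_eq_fintype_card]
  rfl

end CfsgLib.FgsC.PSLClasses
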