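import Cfsg.Agent.Lib.FgsB.GLClassBound

/-!
Kernel dimensions of `P(A)^j` recover the elementary divisors; the tuple of a matrix conjugate to a scalar
multiple of itself is invariant under the scaling.
-/

set_option autoImplicit false

universe u

namespace CfsgLib.FgsC.PSLClasses

open Polynomial CfsgLib.FgsB.GLClassBound

variable {F : Type u} [Field F] {n : ℕ}

/-- The dimension of the kernel of `f(A)`. -/
noncomputable def kerDim (A : Matrix (Fin n) (Fin n) F) (f : F[X]) : ℕ :=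
  Module.finrank F (LinearMap.ker (aeval (Matrix.toLin' A) f))

/-- The multiplication by `f` on `F[X]/(g)` over `F`. -/
noncomputable def mulOn (g f : F[X]) : (F[X] ⧸ F[X] ∙ g) →ₗ[F] (F[X] ⧸ F[X] ∙ g) :=
  (LinearMap.lsmul F[X] (F[X] ⧸ F[X] ∙ g) f).restrictScalars F

theorem mulOn_mk (g f s : F[X]) :
    mulOn g f (Submodule.Quotient.mk s) = Submodule.Quotient.mk (f * s) := rfl

theorem ker_mulOn_ne {p P : F[X]} (hp : Irreducible p) (hP : Irreducible P) (hpm : p.Monic) (hPm : P.Monic)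
    (hne : p ≠ P) (e j : ℕ) : Module.finrank F (LinearMap.ker (mulOn (p ^ e) (P ^ j))) = 0 := by
  have hker : LinearMap.ker (mulOn (p ^ e) (P ^ j)) = ⊥ := by
    rw [eq_bot_iff]
    intro v hv
    obtain ⟨s, rfl⟩ := Submodule.Quotient.mk_surjective _ v
    rw [LinearMap.mem_ker, mulOn_mk, Submodule.Quotient.mk_eq_zero, Ideal.mem_span_singleton] at hv
    rw [Submodule.mem_bot, Submodule.Quotient.mk_eq_zero, Ideal.mem_span_singleton]
    have hcop : IsCoprime p P := hp.coprime_iff_not_dvd.2 fun h =>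
      hne (eq_of_monic_of_associated hpm hPm (hp.associated_of_dvd hP h))
    exact hcop.pow.dvd_of_dvd_mul_left hv
  rw [hker, finrank_bot]

theorem ker_mulOn_self {P : F[X]} (hPm : P.Monic) (e j : ℕ) :
    Module.finrank F (LinearMap.ker (mulOn (P ^ e) (P ^ j))) = min j e * P.natDegree := by
  obtain ⟨k, hk⟩ : ∃ k, k = min j e := ⟨_, rfl⟩
  obtain ⟨l, rfl⟩ : ∃ l, e = k + l := ⟨e - k, by omega⟩
  rw [← hk]
  let L : F[X] →ₗ[F[X]] (F[X] ⧸ F[X] ∙ (P ^ (k + l))) :=
    (Submodule.mkQ _).comp (LinearMap.mulLeft F[X] (P ^ l))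
  have hL : ∀ r, L r = Submodule.Quotient.mk (P ^ l * r) := fun r => rfl
  have hne : (P ^ l : F[X]) ≠ 0 := (hPm.pow l).ne_zero
  have hkerL : LinearMap.ker L = F[X] ∙ (P ^ k) := by
    ext r
    rw [LinearMap.mem_ker, hL, Submodule.Quotient.mk_eq_zero, Ideal.mem_span_singleton, Ideal.mem_span_singleton,
      pow_add, mul_comm (P ^ k), mul_dvd_mul_iff_left hne]
  have hrange : (LinearMap.range L).restrictScalars F = LinearMap.ker (mulOn (P ^ (k + l)) (P ^ j)) := by
    ext v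
    constructor
    · rintro ⟨r, rfl⟩
      rw [LinearMap.mem_ker, hL, mulOn_mk, Submodule.Quotient.mk_eq_zero, Ideal.mem_span_singleton, ← mul_assoc,
        ← pow_add]
      exact (pow_dvd_pow P (by omega)).mul_right r
    · intro hv
      obtain ⟨s, rfl⟩ := Submodule.Quotient.mk_surjective _ v
      rw [LinearMap.mem_ker, mulOn_mk, Submodule.Quotient.mk_eq_zero, Ideal.mem_span_singleton] at hv
      rcases Nat.lt_or_ge j (k + l) with hj | hj
      · have hkj : k = j := by omega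
        rw [pow_add, ← hkj, mul_dvd_mul_iff_left (hPm.pow k).ne_zero] at hv
        obtain ⟨r, rfl⟩ := hv
        exact ⟨r, rfl⟩
      · have hl : l = 0 := by omega
        exact ⟨s, by rw [hL, hl, pow_zero, one_mul]⟩
  let E := (Submodule.quotEquivOfEq _ _ hkerL.symm).trans L.quotKerEquivRange
  have h1 := (E.restrictScalars F).finrank_eq
  rw [← hrange]
  refine h1.symm.trans ?_
  exact (finrank_quotient_span_eq_natDegree (f := P ^ k)).trans (natDegree_pow P k)

section Data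

variable {A : GL (Fin n) F} {ι : Type u} [Fintype ι] {p : ι → F[X]} {e : ι → ℕ}

open scoped Classical in
theorem kerDim_pow (hd : IsDivisorData n p e)
    (hE : Nonempty (MatModule (A : Matrix (Fin n) (Fin n) F) ≃ₗ[F[X]] ((i : ι) → F[X] ⧸ F[X] ∙ (p i ^ e i))))
    {P : F[X]} (hPm : P.Monic) (hP : Irreducible P) (j : ℕ) :
    kerDim (A : Matrix (Fin n) (Fin n) F) (P ^ j) =
      P.natDegree * ∑ x : ι, if p x = P then min j (e x) else 0 := by
  obtain ⟨E⟩ := hE
  obtain ⟨hpe, -⟩ := hd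
  set φ := Matrix.toLin' (A : Matrix (Fin n) (Fin n) F) with hφ
  let Φ : (Fin n → F) ≃ₗ[F] ((i : ι) → F[X] ⧸ F[X] ∙ (p i ^ e i)) :=
    (Module.AEval'.of φ).trans (E.restrictScalars F)
  haveI hfi : ∀ i, Module.Finite F (F[X] ⧸ F[X] ∙ (p i ^ e i)) := fun i =>
    ((hpe i).1.pow _).finite_adjoinRoot
  have hmem : ∀ v, aeval φ (P ^ j) v = 0 ↔ ∀ i, mulOn (p i ^ e i) (P ^ j) (Φ v i) = 0 := fun v => by
    have : Φ (aeval φ (P ^ j) v) = (P ^ j : F[X]) • Φ v := by
      show E (Module.AEval'.of φ (aeval φ (P ^ j) v)) = (P ^ j : F[X]) • E (Module.AEval'.of φ v)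
      rw [← map_smul]
      rfl
    rw [← Φ.map_eq_zero_iff, this, funext_iff]
    rfl
  let K : LinearMap.ker (aeval φ (P ^ j)) ≃ₗ[F] ((i : ι) → LinearMap.ker (mulOn (p i ^ e i) (P ^ j))) :=
    { toFun := fun v i => ⟨Φ v.1 i, (hmem v.1).1 v.2 i⟩
      map_add' := fun a b => funext fun i => Subtype.ext (by simp)
      map_smul' := fun c a => funext fun i => Subtype.ext (by simp)
      invFun := fun w => ⟨Φ.symm fun i => (w i).1, (hmem _).2 fun i => by
        rw [LinearEquiv.apply_symm_apply]; exact (w i).2⟩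
      left_inv := fun v => Subtype.ext (Φ.symm_apply_apply v.1)
      right_inv := fun w => funext fun i => Subtype.ext (congrFun (Φ.apply_symm_apply _) i) }
  haveI : ∀ i, Module.Free F (LinearMap.ker (mulOn (p i ^ e i) (P ^ j))) := fun i =>
    @Module.Free.of_divisionRing F _ _ _ _
  haveI : ∀ i, Module.Finite F (LinearMap.ker (mulOn (p i ^ e i) (P ^ j))) := fun i => inferInstance
  rw [kerDim, K.finrank_eq, Module.finrank_pi_fintype, Finset.mul_sum]
  refine Finset.sum_congr rfl fun i _ => ?_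
  split_ifs with h
  · rw [h, ker_mulOn_self hPm, mul_comm]
  · rw [ker_mulOn_ne (hpe i).2.1 hP (hpe i).1 hPm h, mul_zero]

open scoped Classical in
/-- Equal kernel dimensions give equal multiplicities. -/
theorem count_eq_of_kerDim (hd : IsDivisorData n p e)
    (hE : Nonempty (MatModule (A : Matrix (Fin n) (Fin n) F) ≃ₗ[F[X]] ((i : ι) → F[X] ⧸ F[X] ∙ (p i ^ e i))))
    {P Q : F[X]} (hPm : P.Monic) (hP : Irreducible P) (hQm : Q.Monic) (hQ : Irreducible Q)
    (hdeg : P.natDegree = Q.natDegree)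
    (h : ∀ j, kerDim (A : Matrix (Fin n) (Fin n) F) (P ^ j) = kerDim (A : Matrix (Fin n) (Fin n) F) (Q ^ j))
    (i : ℕ) : Fintype.card {x : ι // p x = P ∧ e x = i + 1} = Fintype.card {x : ι // p x = Q ∧ e x = i + 1} := by
  have hM : ∀ j, (∑ x : ι, if p x = P then min j (e x) else 0) =
      ∑ x : ι, if p x = Q then min j (e x) else 0 := fun j => by
    have := h j
    rw [kerDim_pow hd hE hPm hP, kerDim_pow hd hE hQm hQ, hdeg] at this
    exact Nat.eq_of_mul_eq_mul_left hQ.natDegree_pos this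
  have key : ∀ R : F[X], Fintype.card {x : ι // p x = R ∧ e x = i + 1} +
      (∑ x : ι, if p x = R then min i (e x) else 0) + (∑ x : ι, if p x = R then min (i + 2) (e x) else 0) =
      2 * ∑ x : ι, if p x = R then min (i + 1) (e x) else 0 := fun R => by
    rw [Fintype.card_subtype, Finset.card_eq_sum_ones, Finset.sum_filter, Finset.mul_sum,
      ← Finset.sum_add_distrib, ← Finset.sum_add_distrib]
    refine Finset.sum_congr rfl fun x _ => ?_
    by_cases hx : p x = R
    · simp only [hx, true_and, if_true]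
      split_ifs <;> omega
    · simp [hx]
  have h1 := key P
  have h2 := key Q
  rw [hM, hM, hM] at h1
  omega

end Data

/-- Scaling of the variable, normalised to keep monic polynomials monic. -/
noncomputable def scl (ζ : F) (f : F[X]) : F[X] := C ((ζ ^ f.natDegree)⁻¹) * f.comp (C ζ * X)

variable {ζ : F}

theorem natDegree_comp_scale (hζ : ζ ≠ 0) (f : F[X]) : (f.comp (C ζ * X)).natDegree = f.natDegree := by
  rw [natDegree_comp, natDegree_C_mul_X ζ hζ, mul_one]

theorem natDegree_scl (hζ : ζ ≠ 0) (f : F[X]) : (scl ζ f).natDegree = f.natDegree := by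
  rw [scl, natDegree_C_mul (inv_ne_zero (pow_ne_zero _ hζ)), natDegree_comp_scale hζ]

theorem coeff_scl (f : F[X]) (k : ℕ) : (scl ζ f).coeff k = (ζ ^ f.natDegree)⁻¹ * (f.coeff k * ζ ^ k) := by
  rw [scl, coeff_C_mul, comp_C_mul_X_coeff]

theorem scl_monic (hζ : ζ ≠ 0) {f : F[X]} (hf : f.Monic) : (scl ζ f).Monic := by
  rw [Monic, leadingCoeff, natDegree_scl hζ, coeff_scl, hf.coeff_natDegree, one_mul,
    inv_mul_cancel₀ (pow_ne_zero _ hζ)]

theorem scl_prod (hζ : ζ ≠ 0) {κ : Type*} (s : Finset κ) (f : κ → F[X]) (hf : ∀ x ∈ s, (f x).Monic) :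
    scl ζ (∏ x ∈ s, f x) = ∏ x ∈ s, scl ζ (f x) := by
  simp only [scl, ← inv_pow]
  rw [natDegree_prod_of_monic _ _ hf, Finset.prod_mul_distrib, Polynomial.prod_comp, ← map_prod,
    Finset.prod_pow_eq_pow_sum]

theorem scl_irreducible (hζ : ζ ≠ 0) {f : F[X]} (hf : Irreducible f) : Irreducible (scl ζ f) := by
  haveI : Invertible ζ := invertibleOfNonzero hζ
  have h : Irreducible (algEquivCMulXAddC ζ 0 f) :=
    (MulEquiv.irreducible_iff (algEquivCMulXAddC ζ 0).toRingEquiv.toMulEquiv).2 hf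
  rw [algEquivCMulXAddC_apply, map_zero, add_zero, ← comp_eq_aeval] at h
  rw [scl, irreducible_isUnit_mul (isUnit_C.2 (isUnit_iff_ne_zero.2 (inv_ne_zero (pow_ne_zero _ hζ))))]
  exact h

theorem scl_scl_inv (hζ : ζ ≠ 0) (f : F[X]) : scl ζ (scl ζ⁻¹ f) = f := by
  ext k
  rw [coeff_scl, natDegree_scl (inv_ne_zero hζ), coeff_scl]
  have h1 : ζ ^ f.natDegree ≠ 0 := pow_ne_zero _ hζ
  have h2 : ζ ^ k ≠ 0 := pow_ne_zero _ hζ
  rw [inv_pow, inv_pow, inv_inv]
  field_simp

theorem scl_inv_scl (hζ : ζ ≠ 0) (f : F[X]) : scl ζ⁻¹ (scl ζ f) = f := by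
  have := scl_scl_inv (inv_ne_zero hζ) f
  rwa [inv_inv] at this

theorem kerDim_conj {A B : Matrix (Fin n) (Fin n) F} (T : GL (Fin n) F)
    (h : B = (T : Matrix (Fin n) (Fin n) F) * A * ((T⁻¹ : GL (Fin n) F) : Matrix (Fin n) (Fin n) F)) (f : F[X]) :
    kerDim B f = kerDim A f := by
  let t : (Fin n → F) ≃ₗ[F] (Fin n → F) :=
    LinearEquiv.ofLinearMap (Matrix.toLin' (T : Matrix (Fin n) (Fin n) F))
      (Matrix.toLin' ((T⁻¹ : GL (Fin n) F) : Matrix (Fin n) (Fin n) F))
      (by rw [← Matrix.toLin'_mul, ← Units.val_mul, mul_inv_cancel, Units.val_one, Matrix.toLin'_one])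
      (by rw [← Matrix.toLin'_mul, ← Units.val_mul, inv_mul_cancel, Units.val_one, Matrix.toLin'_one])
  have hB : Matrix.toLin' B = t.conjAlgEquiv F (Matrix.toLin' A) := by
    rw [h, Matrix.toLin'_mul, Matrix.toLin'_mul]
    rfl
  rw [kerDim, kerDim, hB, aeval_algHom_apply]
  have hker : LinearMap.ker (t.conjAlgEquiv F (aeval (Matrix.toLin' A) f)) =
      (LinearMap.ker (aeval (Matrix.toLin' A) f)).map (t : (Fin n → F) →ₗ[F] (Fin n → F)) := by
    ext v
    rw [Submodule.mem_map_equiv, LinearMap.mem_ker, LinearMap.mem_ker]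
    exact t.map_eq_zero_iff
  rw [hker, LinearEquiv.finrank_map_eq]

theorem kerDim_scl (hζ : ζ ≠ 0) (A : Matrix (Fin n) (Fin n) F) (f : F[X]) (j : ℕ) :
    kerDim A (scl ζ f ^ j) = kerDim (ζ • A) (f ^ j) := by
  rw [kerDim, kerDim, scl, mul_pow, ← pow_comp, ← C_pow, map_mul, aeval_C, aeval_comp, map_mul, aeval_C,
    aeval_X, ← Algebra.smul_def, ← Algebra.smul_def, LinearMap.ker_smul _ _ (pow_ne_zero _ (inv_ne_zero (pow_ne_zero _ hζ))),
    map_smul]

/-- The tuple of a matrix conjugate to its `ζ`-multiple is fixed by the scaling. -/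
theorem scl_tupleOf {A : GL (Fin n) F} {ι : Type u} [Fintype ι] {p : ι → F[X]} {e : ι → ℕ}
    (hd : IsDivisorData n p e)
    (hE : Nonempty (MatModule (A : Matrix (Fin n) (Fin n) F) ≃ₗ[F[X]] ((i : ι) → F[X] ⧸ F[X] ∙ (p i ^ e i))))
    (hζ : ζ ≠ 0) (T : GL (Fin n) F)
    (hT : ζ • (A : Matrix (Fin n) (Fin n) F) = (T : Matrix (Fin n) (Fin n) F) * (A : Matrix (Fin n) (Fin n) F) *
      ((T⁻¹ : GL (Fin n) F) : Matrix (Fin n) (Fin n) F))
    (i : Fin n) : scl ζ (tupleOf n p e i) = tupleOf n p e i := by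
  classical
  have hpe := hd.1
  let S := {x : ι // e x = (i : ℕ) + 1}
  have hcount : ∀ R : F[X], Fintype.card {x : S // scl ζ (p x.1) = R} = Fintype.card {x : S // p x.1 = R} := by
    intro R
    by_cases hR : R.Monic ∧ Irreducible R
    · have hPm := scl_monic (inv_ne_zero hζ) hR.1
      have hP := scl_irreducible (inv_ne_zero hζ) hR.2
      have hc := count_eq_of_kerDim hd hE hPm hP hR.1 hR.2 (natDegree_scl (inv_ne_zero hζ) R) (fun j => by
        conv_rhs => rw [← scl_scl_inv hζ R]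
        rw [kerDim_scl hζ, kerDim_conj T hT]) (i : ℕ)
      refine Eq.trans ?_ (hc.trans ?_)
      · exact Fintype.card_congr
          { toFun := fun x => ⟨x.1.1, ((scl_inv_scl hζ _).symm.trans (congrArg (scl ζ⁻¹) x.2)), x.1.2⟩
            invFun := fun x => ⟨⟨x.1, x.2.2⟩, by
              show scl ζ (p x.1) = R
              rw [x.2.1, scl_scl_inv hζ]⟩
            left_inv := fun x => rfl
            right_inv := fun x => rfl }
      · exact Fintype.card_congr
          { toFun := fun x => ⟨⟨x.1, x.2.2⟩, x.2.1⟩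
            invFun := fun x => ⟨x.1.1, x.2, x.1.2⟩
            left_inv := fun x => rfl
            right_inv := fun x => rfl }
    · rw [Fintype.card_eq_zero_iff.2 (⟨fun x => hR ⟨x.2 ▸ scl_monic hζ (hpe x.1.1).1,
          x.2 ▸ scl_irreducible hζ (hpe x.1.1).2.1⟩⟩ : IsEmpty {x : S // scl ζ (p x.1) = R}),
        Fintype.card_eq_zero_iff.2 (⟨fun x => hR ⟨x.2 ▸ (hpe x.1.1).1, x.2 ▸ (hpe x.1.1).2.1⟩⟩ :
          IsEmpty {x : S // p x.1 = R})]
  let σ : S ≃ S := Equiv.ofFiberEquiv fun R => Fintype.equivOfCardEq (hcount R)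
  have hσ : ∀ x, p (σ x).1 = scl ζ (p x.1) := fun x =>
    Equiv.ofFiberEquiv_map (f := fun y : S => scl ζ (p y.1)) (g := fun y : S => p y.1) _ x
  rw [tupleOf_apply, scl_prod hζ _ _ fun x _ => (hpe x).1,
    Finset.prod_subtype (p := fun x => e x = (i : ℕ) + 1) _ (fun x => by simp) (fun x => scl ζ (p x)),
    Finset.prod_subtype (p := fun x => e x = (i : ℕ) + 1) _ (fun x => by simp) p]
  exact Fintype.prod_equiv σ _ _ fun x => (hσ x).symm

/-- A polynomial fixed by the scaling lives on the multiples of the order of `ζ`. -/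
theorem dvd_of_scl_eq (hζ : ζ ≠ 0) {f : F[X]} (h : scl ζ f = f) (h0 : f.coeff 0 ≠ 0) :
    orderOf ζ ∣ f.natDegree ∧ ∀ k, f.coeff k ≠ 0 → orderOf ζ ∣ k := by
  have e : ∀ k, f.coeff k ≠ 0 → ζ ^ k = ζ ^ f.natDegree := fun k hk => by
    have := congrArg (fun g : F[X] => g.coeff k) h
    simp only [coeff_scl] at this
    rw [inv_mul_eq_iff_eq_mul₀ (pow_ne_zero _ hζ), mul_comm (ζ ^ _)] at this
    exact mul_left_cancel₀ hk this
  have hd : ζ ^ f.natDegree = 1 := by rw [← e 0 h0, pow_zero]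
  exact ⟨orderOf_dvd_of_pow_eq_one hd, fun k hk => orderOf_dvd_of_pow_eq_one ((e k hk).trans hd)⟩

end CfsgLib.FgsC.PSLClasses
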