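import Cfsg.Agent.Lib.FgsB.SLClassBound
import Cfsg.Agent.Lib.FgsC.PSLClasses.Burnside
import Cfsg.Agent.Lib.FgsC.PSLClasses.Kernel

/-!
The classes of `SL_n(q)` fixed by translation with a central element.
-/

set_option autoImplicit false

universe u

namespace CfsgLib.FgsC.PSLClasses

open Polynomial CfsgLib.FgsB.GLClassBound CfsgLib.FgsB.SLClassBound

variable {F : Type u} [Field F] [Fintype F] {n : ℕ}

/-- A set of classes whose tuples satisfy `P` injects into the pairs with `P`. -/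
theorem card_subset_le_pairs (S : Set (ConjClasses (Matrix.SpecialLinearGroup (Fin n) F)))
    (P : (Fin n → F[X]) → Prop)
    (hP : ∀ x ∈ S, ∀ (A : GL (Fin n) F) {ι : Type u} [Fintype ι] (p : ι → F[X]) (e : ι → ℕ),
      IsDivisorData n p e →
      Nonempty (MatModule (A : Matrix (Fin n) (Fin n) F) ≃ₗ[F[X]] ((i : ι) → F[X] ⧸ F[X] ∙ (p i ^ e i))) →
      IsConj A (Matrix.SpecialLinearGroup.toGL x.out) → P (tupleOf n p e)) :
    Nat.card S ≤ Nat.card (Σ g : {g : tupleSet F n 1 n // tupleDet g.1 = 1 ∧ P g.1},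
      Fˣ ⧸ (scaleHom g.1.1).range) := by
  classical
  haveI := finite_tupleSet (F := F) (n := n)
  choose ι hι p e hpe hsum hE using fun A : GL (Fin n) F => exists_divisors A
  let toGL : Matrix.SpecialLinearGroup (Fin n) F →* GL (Fin n) F := Matrix.SpecialLinearGroup.toGL
  let cl : ConjClasses (Matrix.SpecialLinearGroup (Fin n) F) → GL (Fin n) F := fun x =>
    (ConjClasses.mk (toGL x.out)).out
  have hcl : ∀ x, IsConj (cl x) (toGL x.out) := fun x =>
    ConjClasses.mk_eq_mk_iff_isConj.1 (Quotient.out_eq (ConjClasses.mk (toGL x.out)))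
  choose h hh using fun x => isConj_iff.1 (hcl x)
  let T : ConjClasses (Matrix.SpecialLinearGroup (Fin n) F) → (Fin n → F[X]) := fun x =>
    tupleOf n (p (cl x)) (e (cl x))
  have hdetA : ∀ x, ((cl x : GL (Fin n) F) : Matrix (Fin n) (Fin n) F).det = 1 := fun x => by
    have := congrArg (fun g : GL (Fin n) F => Matrix.GeneralLinearGroup.det g) (hh x)
    simp only [map_mul, map_inv, mul_inv_cancel_comm] at this
    rw [← Matrix.GeneralLinearGroup.val_det_apply, this]
    exact x.out.2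
  have hT : ∀ x, T x ∈ tupleSet F n 1 n := fun x => tupleOf_mem ⟨hpe (cl x), hsum (cl x)⟩
  have hTd : ∀ x, tupleDet (T x) = 1 := fun x =>
    (det_eq_tupleDet ⟨hpe (cl x), hsum (cl x)⟩ (hE (cl x))).symm.trans (hdetA x)
  refine Nat.card_le_card_of_injective (fun x : S => ⟨⟨⟨T x.1, hT x.1⟩, hTd x.1,
    hP x.1 x.2 (cl x.1) (p (cl x.1)) (e (cl x.1)) ⟨hpe _, hsum _⟩ (hE _) (hcl x.1)⟩,
    QuotientGroup.mk (Matrix.GeneralLinearGroup.det (h x.1))⟩) ?_
  rintro ⟨x, hx⟩ ⟨y, hy⟩ hxy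
  apply Subtype.ext
  show x = y
  obtain ⟨h1, h2⟩ := Sigma.mk.inj_iff.1 hxy
  have hT' : T x = T y := congrArg (fun z => z.1.1) h1
  have hclxy : cl x = cl y := by
    have hc : IsConj (cl x) (cl y) := isConj_of_tupleOf_eq ⟨hpe _, hsum _⟩ ⟨hpe _, hsum _⟩ (hE _) (hE _) hT'
    show (ConjClasses.mk (toGL x.out)).out = (ConjClasses.mk (toGL y.out)).out
    rw [show ConjClasses.mk (toGL x.out) = ConjClasses.mk (toGL y.out) from
      ConjClasses.mk_eq_mk_iff_isConj.2 (((hcl x).symm.trans hc).trans (hcl y))]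
  have h3 : (Matrix.GeneralLinearGroup.det (h x))⁻¹ * Matrix.GeneralLinearGroup.det (h y) ∈
      (scaleHom (T x)).range := by
    revert h2
    dsimp only
    generalize hg : scaleHom (T y) = ψ
    rw [← hT'] at hg
    subst hg
    intro h2
    exact QuotientGroup.eq.1 (eq_of_heq h2)
  have hle : (scaleHom (T x)).range ≤
      (Subgroup.centralizer {cl x}).map Matrix.GeneralLinearGroup.det := by
    rintro _ ⟨c, rfl⟩
    show (∏ i : Fin n, if 0 < ((T x) i).natDegree then c i ^ (1 + (i : ℕ)) else 1) ∈ _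
    refine Subgroup.prod_mem _ fun i _ => ?_
    split_ifs with hi
    · obtain ⟨j, hj⟩ : ∃ j, e (cl x) j = (i : ℕ) + 1 := by
        by_contra hno
        push Not at hno
        simp only [T, tupleOf_apply] at hi
        rw [Finset.filter_false_of_mem fun j _ => hno j, Finset.prod_empty, natDegree_one] at hi
        exact lt_irrefl _ hi
      obtain ⟨C, hC, hCd⟩ := exists_centralizer_det ⟨hpe _, hsum _⟩ (hE (cl x)) j (c i)
      exact ⟨C, Subgroup.mem_centralizer_singleton_iff.2 hC, by rw [hCd, hj, add_comm]⟩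
    · exact one_mem _
  obtain ⟨C, hC, hCd⟩ := hle h3
  rw [← Quotient.out_eq x, ← Quotient.out_eq y]
  refine ConjClasses.mk_eq_mk_iff_isConj.2 (isConj_iff.2 ?_)
  have hk : Matrix.GeneralLinearGroup.det (h y * C⁻¹ * (h x)⁻¹) = 1 := by
    rw [map_mul, map_mul, map_inv, map_inv, hCd, mul_inv_rev, inv_inv, ← mul_assoc,
      mul_inv_cancel, one_mul, mul_inv_cancel]
  have hC' : C⁻¹ * cl x * C = cl x := by
    rw [mul_assoc, ← Subgroup.mem_centralizer_singleton_iff.1 hC, inv_mul_cancel_left]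
  let U : Matrix.SpecialLinearGroup (Fin n) F :=
    ⟨((h y * C⁻¹ * (h x)⁻¹ : GL (Fin n) F) : Matrix (Fin n) (Fin n) F), congrArg Units.val hk⟩
  have hU : toGL U = h y * C⁻¹ * (h x)⁻¹ := Units.ext rfl
  refine ⟨U, (Matrix.SpecialLinearGroup.toGL_injective : Function.Injective toGL) ?_⟩
  rw [map_mul, map_mul, map_inv, hU, ← hh x, ← hh y, ← hclxy]
  calc _ = h y * (C⁻¹ * cl x * C) * (h y)⁻¹ := by group
    _ = _ := by rw [hC']

variable {z : Subgroup.center (Matrix.SpecialLinearGroup (Fin n) F)} {ζ : F}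

/-- The fixed classes are counted by scaling-invariant tuples. -/
theorem card_fixed_le_pairs (hζ : ζ ≠ 0)
    (hz : Matrix.scalar (Fin n) ζ = ((z : Matrix.SpecialLinearGroup (Fin n) F) : Matrix (Fin n) (Fin n) F)) :
    Nat.card {x : ConjClasses (Matrix.SpecialLinearGroup (Fin n) F) // zMul le_rfl z x = x} ≤
      Nat.card (Σ g : {g : tupleSet F n 1 n // tupleDet g.1 = 1 ∧ ∀ i, scl ζ (g.1 i) = g.1 i},
        Fˣ ⧸ (scaleHom g.1.1).range) := by
  refine card_subset_le_pairs {x | zMul le_rfl z x = x} (fun g => ∀ i, scl ζ (g i) = g i) ?_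
  intro x (hx : zMul le_rfl z x = x) A ι hι p e hd hE hA
  let toGL : Matrix.SpecialLinearGroup (Fin n) F →* GL (Fin n) F := Matrix.SpecialLinearGroup.toGL
  rw [← Quotient.out_eq x] at hx
  have h1 : IsConj ((z : Matrix.SpecialLinearGroup (Fin n) F) * x.out) x.out :=
    ConjClasses.mk_eq_mk_iff_isConj.1 hx
  obtain ⟨h, hh⟩ := isConj_iff.1 hA
  have hcomm : Commute h (toGL z) := Units.ext (by
    show (h : Matrix (Fin n) (Fin n) F) * ((z : Matrix.SpecialLinearGroup (Fin n) F) : Matrix (Fin n) (Fin n) F) =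
      ((z : Matrix.SpecialLinearGroup (Fin n) F) : Matrix (Fin n) (Fin n) F) * (h : Matrix (Fin n) (Fin n) F)
    rw [← hz]
    exact ((Matrix.scalar_commute ζ (fun r' => mul_comm ζ r') _).symm).eq)
  have hzA : IsConj (toGL z * A) (toGL ((z : Matrix.SpecialLinearGroup (Fin n) F) * x.out)) := by
    refine isConj_iff.2 ⟨h, ?_⟩
    rw [map_mul, ← mul_assoc, hcomm.eq, mul_assoc (toGL z), mul_assoc (toGL z), hh]
  obtain ⟨T, hT⟩ := isConj_iff.1 ((hA.trans (toGL.map_isConj h1.symm)).trans hzA.symm)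
  intro i
  refine scl_tupleOf hd hE hζ T ?_ i
  rw [← Units.val_mul, ← Units.val_mul, hT, Units.val_mul]
  show _ = ((z : Matrix.SpecialLinearGroup (Fin n) F) : Matrix (Fin n) (Fin n) F) * _
  rw [← hz, Matrix.scalar_apply, ← Matrix.smul_eq_diagonal_mul]

theorem card_invariant_le (hn : 1 ≤ n) (hζn : ζ ^ n = 1) :
    Nat.card {g : tupleSet F n 1 n // tupleDet g.1 = 1 ∧ ∀ i, scl ζ (g.1 i) = g.1 i} ≤
      Fintype.card F ^ (n / orderOf ζ) := by
  classical
  have hζ : ζ ≠ 0 := fun h => by rw [h, zero_pow (by omega)] at hζn; exact zero_ne_one hζn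
  have hdvd : orderOf ζ ∣ n := orderOf_dvd_of_pow_eq_one hζn
  have hm : 0 < orderOf ζ := Nat.pos_of_ne_zero fun h => by rw [h, zero_dvd_iff] at hdvd; omega
  set m := orderOf ζ with hmdef
  obtain ⟨hfin, hcard⟩ := tupleSet_card F n 1 one_pos (n / m)
  haveI := hfin.to_subtype
  have key : ∀ g : {g : tupleSet F n 1 n // tupleDet g.1 = 1 ∧ ∀ i, scl ζ (g.1 i) = g.1 i},
      ∀ i, (contract m (g.1.1 i)).natDegree * m = (g.1.1 i).natDegree ∧ (contract m (g.1.1 i)).Monic ∧
        (contract m (g.1.1 i)).coeff 0 ≠ 0 := fun g i => by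
    obtain ⟨hd, -⟩ := dvd_of_scl_eq hζ (g.2.2 i) (g.1.2.1 i).2
    obtain ⟨c, hc⟩ := hd
    rw [← hmdef] at hc
    have hmon : (g.1.1 i).coeff (c * m) = 1 := by rw [mul_comm, ← hc]; exact (g.1.2.1 i).1.coeff_natDegree
    have hdeg : (contract m (g.1.1 i)).natDegree = c := by
      refine natDegree_eq_of_le_of_coeff_ne_zero (natDegree_le_iff_coeff_eq_zero.2 fun k hk => ?_) ?_
      · rw [coeff_contract hm.ne']
        refine coeff_eq_zero_of_natDegree_lt ?_
        rw [hc, mul_comm]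
        exact Nat.mul_lt_mul_of_pos_right hk hm
      · rw [coeff_contract hm.ne', hmon]; exact one_ne_zero
    refine ⟨by rw [hdeg, hc, mul_comm], ?_, by rw [coeff_contract hm.ne', zero_mul]; exact (g.1.2.1 i).2⟩
    rw [Monic, leadingCoeff, hdeg, coeff_contract hm.ne', hmon]
  let f : {g : tupleSet F n 1 n // tupleDet g.1 = 1 ∧ ∀ i, scl ζ (g.1 i) = g.1 i} →
      tupleSet F n 1 (n / m) := fun g => ⟨fun i => contract m (g.1.1 i),
    fun i => ⟨(key g i).2.1, (key g i).2.2⟩, by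
      refine Nat.eq_of_mul_eq_mul_right hm ?_
      rw [Nat.div_mul_cancel hdvd, Finset.sum_mul]
      exact (Finset.sum_congr rfl fun i _ => by rw [mul_assoc, (key g i).1]).trans g.1.2.2⟩
  refine (Nat.card_le_card_of_injective f fun g g' h => ?_).trans
    ((le_of_eq (Nat.card_coe_set_eq _)).trans (hcard.trans (tupleCount_one_le Fintype.one_lt_card _ _)))
  apply Subtype.ext; apply Subtype.ext; funext i; ext k
  have hi : contract m (g.1.1 i) = contract m (g'.1.1 i) := congrFun (congrArg Subtype.val h) i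
  by_cases hk : m ∣ k
  · obtain ⟨c, rfl⟩ := hk
    have := congrArg (fun p : F[X] => p.coeff c) hi
    simp only [coeff_contract hm.ne'] at this
    rwa [mul_comm]
  · have h0 : ∀ q : {g : tupleSet F n 1 n // tupleDet g.1 = 1 ∧ ∀ i, scl ζ (g.1 i) = g.1 i},
        (q.1.1 i).coeff k = 0 := fun q => not_not.1 fun hne =>
      hk ((dvd_of_scl_eq hζ (q.2.2 i) (q.1.2.1 i).2).2 k hne)
    rw [h0 g, h0 g']

/-- The general bound for the fixed classes. -/
theorem card_fixed_le (hn : 1 ≤ n) (hζn : ζ ^ n = 1)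
    (hz : Matrix.scalar (Fin n) ζ = ((z : Matrix.SpecialLinearGroup (Fin n) F) : Matrix (Fin n) (Fin n) F)) :
    Nat.card {x : ConjClasses (Matrix.SpecialLinearGroup (Fin n) F) // zMul le_rfl z x = x} ≤
      Nat.gcd (Nat.gcd n (Fintype.card F - 1)) (n / orderOf ζ) * Fintype.card F ^ (n / orderOf ζ) := by
  classical
  have hζ : ζ ≠ 0 := fun h => by rw [h, zero_pow (by omega)] at hζn; exact zero_ne_one hζn
  have hdvd : orderOf ζ ∣ n := orderOf_dvd_of_pow_eq_one hζn
  have hm : 0 < orderOf ζ := Nat.pos_of_ne_zero fun h => by rw [h, zero_dvd_iff] at hdvd; omega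
  haveI := finite_tupleSet (F := F) (n := n)
  haveI := Fintype.ofFinite {g : tupleSet F n 1 n // tupleDet g.1 = 1 ∧ ∀ i, scl ζ (g.1 i) = g.1 i}
  refine (card_fixed_le_pairs hζ hz).trans ?_
  rw [Nat.card_sigma]
  refine (Finset.sum_le_card_nsmul _ _ (Nat.gcd (Nat.gcd n (Fintype.card F - 1)) (n / orderOf ζ))
    fun g _ => ?_).trans ?_
  · rw [← Subgroup.index_eq_card]
    obtain ⟨h1, h2⟩ := splitNumber_dvd g.1.1
    unfold splitNumber at h1 h2
    rw [Nat.card_units, Nat.card_eq_fintype_card] at h1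
    have h3 : (scaleHom g.1.1).range.index * orderOf ζ ∣ n := by
      refine (Finset.dvd_sum fun i _ => ?_).trans (dvd_of_eq g.1.2.2)
      rcases Nat.eq_zero_or_pos (g.1.1 i).natDegree with h0 | hp
      · rw [h0, mul_zero]; exact dvd_zero _
      · exact Nat.mul_dvd_mul (h2 i hp) (dvd_of_scl_eq hζ (g.2.2 i) (g.1.2.1 i).2).1
    refine Nat.le_of_dvd ?_ (Nat.dvd_gcd (Nat.dvd_gcd ((dvd_mul_right _ _).trans h3) h1) ?_)
    · exact Nat.gcd_pos_of_pos_right _ (Nat.div_pos (Nat.le_of_dvd (by omega) hdvd) hm)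
    · exact Nat.dvd_div_of_mul_dvd (by rwa [mul_comm])
  · rw [smul_eq_mul, Finset.card_univ, ← Nat.card_eq_fintype_card, mul_comm]
    exact Nat.mul_le_mul_left _ (card_invariant_le hn hζn)

/-- For `n = 2` at most one class is fixed. -/
theorem card_fixed_two {z : Subgroup.center (Matrix.SpecialLinearGroup (Fin 2) F)} (hζn : ζ ^ 2 = 1) (hζ1 : ζ ≠ 1)
    (hz : Matrix.scalar (Fin 2) ζ = ((z : Matrix.SpecialLinearGroup (Fin 2) F) : Matrix (Fin 2) (Fin 2) F)) :
    Nat.card {x : ConjClasses (Matrix.SpecialLinearGroup (Fin 2) F) // zMul le_rfl z x = x} ≤ 1 := by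
  classical
  have hζ : ζ ≠ 0 := fun h => by rw [h, zero_pow (by omega)] at hζn; exact zero_ne_one hζn
  have hm : orderOf ζ = 2 := by
    haveI := Fact.mk Nat.prime_two
    exact orderOf_eq_prime hζn hζ1
  have key : ∀ g : {g : tupleSet F 2 1 2 // tupleDet g.1 = 1 ∧ ∀ i, scl ζ (g.1 i) = g.1 i},
      g.1.1 0 = X ^ 2 + 1 ∧ g.1.1 1 = 1 := by
    intro g
    obtain ⟨a, ha⟩ := (dvd_of_scl_eq hζ (g.2.2 0) (g.1.2.1 0).2).1
    obtain ⟨b, hb⟩ := (dvd_of_scl_eq hζ (g.2.2 1) (g.1.2.1 1).2).1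
    rw [hm] at ha hb
    have hs := g.1.2.2
    rw [Fin.sum_univ_two, ha, hb] at hs
    simp at hs
    have h1 : g.1.1 1 = 1 := (g.1.2.1 1).1.natDegree_eq_zero.1 (by omega)
    have hdeg : (g.1.1 0).natDegree = 2 := by omega
    have hdet := g.2.1
    rw [tupleDet, Fin.prod_univ_two, h1] at hdet
    simp at hdet
    refine ⟨?_, h1⟩
    ext k
    rw [coeff_add, coeff_X_pow, coeff_one]
    rcases k with _ | _ | _ | k
    · simpa using hdet
    · rw [if_neg (by omega), if_neg (by omega), add_zero]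
      exact not_not.1 fun hne => by
        have := (dvd_of_scl_eq hζ (g.2.2 0) (g.1.2.1 0).2).2 1 hne
        rw [hm] at this
        omega
    · rw [if_pos rfl, if_neg (by omega), add_zero]
      have h2 := (g.1.2.1 0).1.coeff_natDegree
      rw [hdeg] at h2
      exact h2
    · rw [if_neg (by omega), if_neg (by omega), add_zero]
      exact coeff_eq_zero_of_natDegree_lt (by omega)
  haveI := finite_tupleSet (F := F) (n := 2)
  haveI := Fintype.ofFinite {g : tupleSet F 2 1 2 // tupleDet g.1 = 1 ∧ ∀ i, scl ζ (g.1 i) = g.1 i}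
  haveI : Subsingleton {g : tupleSet F 2 1 2 // tupleDet g.1 = 1 ∧ ∀ i, scl ζ (g.1 i) = g.1 i} :=
    ⟨fun g g' => Subtype.ext (Subtype.ext (funext (Fin.forall_fin_two.2
      ⟨(key g).1.trans (key g').1.symm, (key g).2.trans (key g').2.symm⟩)))⟩
  refine (card_fixed_le_pairs hζ hz).trans ?_
  rw [Nat.card_sigma]
  refine (Finset.sum_le_card_nsmul _ _ 1 fun g _ => ?_).trans ?_
  · rw [← Subgroup.index_eq_card]
    obtain ⟨-, h2⟩ := splitNumber_dvd g.1.1
    unfold splitNumber at h2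
    have hp : 0 < (g.1.1 0).natDegree := by
      rw [(key g).1, show (X ^ 2 + 1 : F[X]) = X ^ 2 + C 1 by simp, natDegree_X_pow_add_C]
      norm_num
    exact Nat.le_of_dvd one_pos (by simpa using h2 0 hp)
  · rw [smul_eq_mul, mul_one, Finset.card_univ, Fintype.card_le_one_iff_subsingleton]
    infer_instance

end CfsgLib.FgsC.PSLClasses
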