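import Cfsg.Agent.Lib.Classical.Order
import Cfsg.Agent.Lib.FgsC.PSLClasses.Fixed

/-!
Bounds for the number of classes of `PSL_n(q)`.
-/

set_option autoImplicit false

universe u

namespace CfsgLib.FgsC.PSLClasses

open CfsgLib.FgsB.GLClassBound CfsgLib.FgsB.SLClassBound

variable {F : Type u} [Field F] [Fintype F] {n : ℕ}

theorem card_center_sl (hn : 1 ≤ n) :
    Nat.card (Subgroup.center (Matrix.SpecialLinearGroup (Fin n) F)) = Nat.gcd n (Fintype.card F - 1) := by
  rw [Nat.card_congr (Matrix.SpecialLinearGroup.center_equiv_rootsOfUnity' (R := F) (⟨0, by omega⟩ : Fin n)).toEquiv,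
    CfsgLib.Classical.card_rootsOfUnity_field, Fintype.card_fin, Nat.card_eq_fintype_card, Nat.gcd_comm]

theorem exists_scalar_of_center (z : Subgroup.center (Matrix.SpecialLinearGroup (Fin n) F)) :
    ∃ ζ : F, ζ ^ n = 1 ∧
      Matrix.scalar (Fin n) ζ = ((z : Matrix.SpecialLinearGroup (Fin n) F) : Matrix (Fin n) (Fin n) F) := by
  obtain ⟨ζ, h1, h2⟩ := Matrix.SpecialLinearGroup.mem_center_iff.1 z.2
  rw [Fintype.card_fin] at h1
  exact ⟨ζ, h1, h2⟩

theorem scalar_ne_one {z : Subgroup.center (Matrix.SpecialLinearGroup (Fin n) F)} (hz1 : z ≠ 1) {ζ : F}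
    (hz : Matrix.scalar (Fin n) ζ = ((z : Matrix.SpecialLinearGroup (Fin n) F) : Matrix (Fin n) (Fin n) F)) :
    ζ ≠ 1 := fun h => hz1 (Subtype.ext (Subtype.ext (by
  rw [← hz, h, map_one]
  rfl)))

/-- A sum with at most one large term. -/
theorem sum_le_one_big {ι : Type*} [DecidableEq ι] (S : Finset ι) (f : ι → ℕ) {A B : ℕ} (hBA : B ≤ A)
    (hA : ∀ z ∈ S, f z ≤ A) (hB : ∀ z ∈ S, ∀ w ∈ S, z ≠ w → f z ≤ B ∨ f w ≤ B) :
    ∑ z ∈ S, f z ≤ A + (S.card - 1) * B := by
  rcases S.eq_empty_or_nonempty with h0 | ⟨x, hx⟩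
  · simp [h0]
  by_cases h : ∃ z ∈ S, B < f z
  · obtain ⟨z, hz, hzB⟩ := h
    rw [← Finset.add_sum_erase _ _ hz, ← Finset.card_erase_of_mem hz, ← smul_eq_mul]
    exact Nat.add_le_add (hA z hz) (Finset.sum_le_card_nsmul _ _ _ fun w hw =>
      (hB z hz w (Finset.mem_of_mem_erase hw) (Finset.ne_of_mem_erase hw).symm).resolve_left (by omega))
  · push Not at h
    rw [← Finset.add_sum_erase _ _ hx, ← Finset.card_erase_of_mem hx, ← smul_eq_mul]
    exact Nat.add_le_add (hA x hx) (Finset.sum_le_card_nsmul _ _ _ fun w hw =>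
      h w (Finset.mem_of_mem_erase hw))

theorem half_le (q : ℕ) (hq : 3 ≤ q) : ∀ t, 1 ≤ t → t + 3 ≤ 2 * q ^ t := fun t ht => by
  induction t, ht using Nat.le_induction with
  | base => rw [pow_one]; omega
  | succ t ht ih =>
    have : q ^ t * 3 ≤ q ^ t * q := Nat.mul_le_mul_left _ hq
    rw [pow_succ]
    omega

theorem card_psl_bounds (hn : 2 ≤ n) :
    Fintype.card F ^ (n - 1) ≤ Nat.gcd n (Fintype.card F - 1) *
        Nat.card (ConjClasses (Matrix.ProjectiveSpecialLinearGroup (Fin n) F)) ∧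
      Nat.gcd n (Fintype.card F - 1) * Nat.card (ConjClasses (Matrix.ProjectiveSpecialLinearGroup (Fin n) F)) ≤
        Fintype.card F ^ (n - 1) + 5 * Fintype.card F ^ (n - 2) := by
  classical
  haveI : Fintype (Subgroup.center (Matrix.SpecialLinearGroup (Fin n) F)) := Fintype.ofFinite _
  set q := Fintype.card F with hqdef
  have hq : 2 ≤ q := Fintype.one_lt_card
  have hd := card_center_sl (F := F) (n := n) (by omega)
  set d := Nat.gcd n (q - 1) with hddef
  have hsum := card_mul_eq (Z := Subgroup.center (Matrix.SpecialLinearGroup (Fin n) F)) le_rfl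
  rw [hd, ← Finset.add_sum_erase _ _ (Finset.mem_univ (1 : Subgroup.center (Matrix.SpecialLinearGroup (Fin n) F)))] at hsum
  have h1 : Nat.card {x : ConjClasses (Matrix.SpecialLinearGroup (Fin n) F) // zMul le_rfl (1 : Subgroup.center (Matrix.SpecialLinearGroup (Fin n) F)) x = x} =
      Nat.card (ConjClasses (Matrix.SpecialLinearGroup (Fin n) F)) := Nat.card_congr (Equiv.subtypeUnivEquiv fun x => by
    obtain ⟨a, rfl⟩ := ConjClasses.exists_rep x
    rw [zMul_mk, OneMemClass.coe_one, one_mul])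
  rw [h1] at hsum
  change Fintype.card F ^ (n - 1) ≤ d * Nat.card (ConjClasses ((Matrix.SpecialLinearGroup (Fin n) F) ⧸ Subgroup.center (Matrix.SpecialLinearGroup (Fin n) F))) ∧
    d * Nat.card (ConjClasses ((Matrix.SpecialLinearGroup (Fin n) F) ⧸ Subgroup.center (Matrix.SpecialLinearGroup (Fin n) F))) ≤ _
  rw [hsum]
  refine ⟨(card_classes_lower (F := F) hn).le.trans (Nat.le_add_right _ _), ?_⟩
  set S := (Finset.univ : Finset (Subgroup.center (Matrix.SpecialLinearGroup (Fin n) F))).erase 1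
  set f : Subgroup.center (Matrix.SpecialLinearGroup (Fin n) F) → ℕ := fun z => Nat.card {x : ConjClasses (Matrix.SpecialLinearGroup (Fin n) F) // zMul le_rfl z x = x}
  have hS : S.card = d - 1 := by
    rw [Finset.card_erase_of_mem (Finset.mem_univ _), Finset.card_univ, ← Nat.card_eq_fintype_card, hd]
  have hmem : ∀ z ∈ S, ∃ ζ : F, ζ ^ n = 1 ∧ ζ ≠ 1 ∧ 2 ≤ orderOf ζ ∧ orderOf ζ ∣ n ∧
      Matrix.scalar (Fin n) ζ = ((z : (Matrix.SpecialLinearGroup (Fin n) F)) : Matrix (Fin n) (Fin n) F) := fun z hz => by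
    obtain ⟨ζ, h1, h2⟩ := exists_scalar_of_center z
    have hne := scalar_ne_one (Finset.ne_of_mem_erase hz) h2
    have hdv := orderOf_dvd_of_pow_eq_one h1
    refine ⟨ζ, h1, hne, ?_, hdv, h2⟩
    have h0 : orderOf ζ ≠ 0 := fun h => by rw [h, zero_dvd_iff] at hdv; omega
    have h11 : orderOf ζ ≠ 1 := fun h => hne (orderOf_eq_one_iff.1 h)
    omega
  have hgen : ∀ z ∈ S, ∃ m, 2 ≤ m ∧ m ∣ n ∧ f z ≤ Nat.gcd d (n / m) * q ^ (n / m) := fun z hz => by
    obtain ⟨ζ, h1, -, hm, hdv, h2⟩ := hmem z hz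
    exact ⟨_, hm, hdv, card_fixed_le (by omega) h1 h2⟩
  have htwo : ∀ z ∈ S, ∀ w ∈ S, z ≠ w → ∀ {B : ℕ}, (∀ ζ : F, 3 ≤ orderOf ζ → orderOf ζ ∣ n →
      Nat.gcd d (n / orderOf ζ) * q ^ (n / orderOf ζ) ≤ B) → f z ≤ B ∨ f w ≤ B := fun z hz w hw hne B hB => by
    obtain ⟨ζ, hζn, -, hm, hdv, hzs⟩ := hmem z hz
    obtain ⟨η, hηn, -, hm', hdv', hws⟩ := hmem w hw
    rcases Nat.lt_or_ge (orderOf ζ) 3 with h3 | h3
    swap
    · exact Or.inl ((card_fixed_le (by omega) hζn hzs).trans (hB ζ h3 hdv))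
    rcases Nat.lt_or_ge (orderOf η) 3 with h3' | h3'
    swap
    · exact Or.inr ((card_fixed_le (by omega) hηn hws).trans (hB η h3' hdv'))
    exfalso
    have e : ∀ x : F, orderOf x = 2 → x = -1 := fun x hx => by
      have hsq : x ^ 2 = 1 := by rw [← hx, pow_orderOf_eq_one]
      rcases sq_eq_one_iff.1 hsq with h | h
      · rw [h, orderOf_one] at hx; omega
      · exact h
    refine hne (Subtype.ext (Subtype.ext ?_))
    rw [← hzs, ← hws, e ζ (by omega), e η (by omega)]
  have hd1 : d ∣ n := Nat.gcd_dvd_left _ _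
  have hd2 : d ∣ q - 1 := Nat.gcd_dvd_right _ _
  have hdq : d ≤ q - 1 := Nat.le_of_dvd (by omega) hd2
  have hd0 : 1 ≤ d := Nat.gcd_pos_of_pos_left _ (by omega)
  have hdn : d ≤ n := Nat.le_of_dvd (by omega) hd1
  show Nat.card (ConjClasses (Matrix.SpecialLinearGroup (Fin n) F)) + ∑ z ∈ S, f z ≤ _
  rcases Nat.lt_or_ge n 3 with hn3 | hn3
  · obtain rfl : n = 2 := by omega
    have hE : ∑ z ∈ S, f z ≤ S.card * 1 := by
      rw [← smul_eq_mul]
      refine Finset.sum_le_card_nsmul _ _ _ fun z hz => ?_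
      obtain ⟨ζ, h1, hne, -, -, h2⟩ := hmem z hz
      exact card_fixed_two h1 hne h2
    have hk := card_classes_le_sum (F := F) (n := 2) (by omega)
    rw [← hqdef] at hk
    have hT : tupleCount q 2 1 2 + 1 ≤ q ^ 2 := by
      obtain ⟨c, hc⟩ : ∃ c, q = c + 1 := ⟨q - 1, by omega⟩
      rw [hc]
      simp [tupleCount, monicCount, Finset.sum_range_succ]
      ring_nf
      omega
    have hk' : Nat.card (ConjClasses (Matrix.SpecialLinearGroup (Fin 2) F)) ≤ q + 1 + 3 * (d - 1) := by
      refine Nat.le_of_mul_le_mul_left (hk.trans ?_) (show 0 < q - 1 by omega)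
      obtain ⟨c, hc⟩ : ∃ c, q = c + 2 := ⟨q - 2, by omega⟩
      rcases (Nat.dvd_prime Nat.prime_two).1 hd1 with h | h
      · have : splitDivisors q 2 = ∅ := by rw [splitDivisors, ← hddef, h]; rfl
        rw [this, Finset.sum_empty, h, hc]
        rw [hc] at hT
        rw [show c + 2 - 1 = c + 1 by omega]
        ring_nf at hT ⊢
        omega
      · have : splitDivisors q 2 = {2} := by rw [splitDivisors, ← hddef, h]; rfl
        rw [this, Finset.sum_singleton, h, hc]
        rw [hc] at hT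
        simp [tupleCount, monicCount, Finset.sum_range_succ] at hT ⊢
        ring_nf at hT ⊢
        omega
    rw [hS] at hE
    refine (Nat.add_le_add hk' hE).trans ?_
    rw [show (2 : ℕ) - 1 = 1 by rfl, show (2 : ℕ) - 2 = 0 by rfl, pow_one, pow_zero]
    omega
  have hk := card_classes_upper (F := F) hn3
  rw [← hqdef] at hk
  suffices hE : ∑ z ∈ S, f z ≤ 2 * q ^ (n - 2) ∨ n = 4 by
    rcases hE with hE | h4
    · exact (Nat.add_le_add hk hE).trans (by omega)
    subst h4
    have hk4 := card_classes_le_sum (F := F) (n := 4) (by omega)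
    rw [← hqdef] at hk4
    have hT4 := tupleCount_one_le hq 4 4
    have hT2 : tupleCount q 2 1 2 + 1 ≤ q ^ 2 := by
      obtain ⟨c, hc⟩ : ∃ c, q = c + 1 := ⟨q - 1, by omega⟩
      rw [hc]
      simp [tupleCount, monicCount, Finset.sum_range_succ]
      ring_nf
      omega
    have hT1 : tupleCount q 1 1 1 = q - 1 := by
      simp [tupleCount, monicCount, Finset.sum_range_succ]
    have hE : ∑ z ∈ S, f z ≤ 2 * q ^ 2 + (S.card - 1) * q := by
      refine sum_le_one_big S f ?_ (fun z hz => ?_) fun z hz w hw hne => htwo z hz w hw hne fun ζ h3 hdv => ?_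
      · calc q = 1 * q := (one_mul q).symm
          _ ≤ 2 * q ^ 2 := Nat.mul_le_mul one_le_two (Nat.le_self_pow two_ne_zero q)
      · obtain ⟨m, hm, hmn, hf⟩ := hgen z hz
        refine hf.trans ?_
        have hle : 4 / m ≤ 2 := (Nat.div_le_div_left hm two_pos)
        have hpos : 0 < 4 / m := Nat.div_pos (Nat.le_of_dvd (by omega) hmn) (by omega)
        exact Nat.mul_le_mul ((Nat.gcd_le_right _ hpos).trans hle) (Nat.pow_le_pow_right (by omega) hle)
      · have : orderOf ζ = 4 := by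
          have := Nat.le_of_dvd (by omega) hdv
          interval_cases orderOf ζ <;> simp_all
        rw [this]
        simp
    rw [hS] at hE
    refine Nat.le_of_mul_le_mul_left ?_ (show 0 < q - 1 by omega)
    rw [mul_add]
    refine (Nat.add_le_add hk4 (Nat.mul_le_mul_left _ hE)).trans ?_
    have hdcases : d = 1 ∨ d = 2 ∨ d = 4 := by
      have h4 : d ∈ (4 : ℕ).divisors := Nat.mem_divisors.2 ⟨hd1, by omega⟩
      rw [show (4 : ℕ).divisors = {1, 2, 4} by decide] at h4
      simpa using h4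
    rcases hdcases with h | h | h
    · have : splitDivisors q 4 = ∅ := by rw [splitDivisors, ← hddef, h]; rfl
      rw [this, Finset.sum_empty, h]
      obtain ⟨c, hc⟩ : ∃ c, q = c + 2 := ⟨q - 2, by omega⟩
      rw [hc] at hT4 ⊢
      rw [show c + 2 - 1 = c + 1 by omega]
      norm_num
      nlinarith
    · have : splitDivisors q 4 = {2} := by rw [splitDivisors, ← hddef, h]; rfl
      rw [this, Finset.sum_singleton, h]
      obtain ⟨c, hc⟩ : ∃ c, q = c + 3 := ⟨q - 3, by omega⟩
      rw [hc] at hT4 hT2 ⊢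
      rw [show c + 3 - 1 = c + 2 by omega]
      norm_num at hT2 ⊢
      nlinarith
    · have : splitDivisors q 4 = {2, 4} := by rw [splitDivisors, ← hddef, h]; rfl
      rw [this, Finset.sum_insert (by simp), Finset.sum_singleton, h]
      norm_num
      rw [hT1]
      obtain ⟨c, hc⟩ : ∃ c, q = c + 5 := ⟨q - 5, by omega⟩
      rw [hc] at hT4 hT2 ⊢
      rw [show c + 5 - 1 = c + 4 by omega]
      ring_nf at hT4 hT2 ⊢
      nlinarith
  rcases Nat.lt_or_ge d 2 with hd' | hd'
  · left
    rw [Finset.card_eq_zero.1 (show S.card = 0 by omega)]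
    simp
  have hq3 : 3 ≤ q := by omega
  rcases Nat.lt_or_ge n 7 with h7 | h7
  · interval_cases n
    · left
      have hE : ∑ z ∈ S, f z ≤ S.card * q := by
        rw [← smul_eq_mul]
        refine Finset.sum_le_card_nsmul _ _ _ fun z hz => ?_
        obtain ⟨m, hm, hmn, hf⟩ := hgen z hz
        obtain rfl : m = 3 := ((Nat.dvd_prime Nat.prime_three).1 hmn).resolve_left (by omega)
        simpa using hf
      rw [hS] at hE
      have : (d - 1) * q ≤ 2 * q := Nat.mul_le_mul_right q (by omega)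
      rw [show 3 - 2 = 1 by rfl, pow_one]
      omega
    · exact Or.inr rfl
    · left
      have hE : ∑ z ∈ S, f z ≤ S.card * q := by
        rw [← smul_eq_mul]
        refine Finset.sum_le_card_nsmul _ _ _ fun z hz => ?_
        obtain ⟨m, hm, hmn, hf⟩ := hgen z hz
        obtain rfl : m = 5 := ((Nat.dvd_prime (by norm_num : Nat.Prime 5)).1 hmn).resolve_left (by omega)
        simpa using hf
      rw [hS] at hE
      have h4 : (d - 1) * q ≤ q * q := Nat.mul_le_mul_right q (by omega)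
      have h5 : q * q ≤ 2 * q ^ 3 := by nlinarith
      rw [show 5 - 2 = 3 by rfl]
      omega
    · left
      have hE : ∑ z ∈ S, f z ≤ 3 * q ^ 3 + (S.card - 1) * (2 * q ^ 2) := by
        refine sum_le_one_big S f ?_ (fun z hz => ?_) fun z hz w hw hne => htwo z hz w hw hne fun ζ h3 hdv => ?_
        · exact Nat.mul_le_mul (by omega) (Nat.pow_le_pow_right (by omega) (by omega))
        · obtain ⟨m, hm, hmn, hf⟩ := hgen z hz
          refine hf.trans ?_
          have hle : 6 / m ≤ 3 := (Nat.div_le_div_left hm two_pos)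
          have hpos : 0 < 6 / m := Nat.div_pos (Nat.le_of_dvd (by omega) hmn) (by omega)
          exact Nat.mul_le_mul ((Nat.gcd_le_right _ hpos).trans hle) (Nat.pow_le_pow_right (by omega) hle)
        · have hle : 6 / orderOf ζ ≤ 2 := (Nat.div_le_div_left h3 (by omega))
          have hpos : 0 < 6 / orderOf ζ := Nat.div_pos (Nat.le_of_dvd (by omega) hdv) (by omega)
          exact Nat.mul_le_mul ((Nat.gcd_le_right _ hpos).trans hle) (Nat.pow_le_pow_right (by omega) hle)
      rw [hS] at hE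
      refine hE.trans ?_
      rw [show 6 - 2 = 4 by rfl]
      rcases Nat.lt_or_ge q 4 with h4 | h4
      · have hq' : q = 3 := by omega
        rw [hq', show d - 1 - 1 = 0 by omega]
        norm_num
      · have : d - 1 - 1 ≤ 4 := by omega
        have h8 : (d - 1 - 1) * (2 * q ^ 2) ≤ 4 * (2 * q ^ 2) := Nat.mul_le_mul_right _ this
        have h34 : 4 * q ^ 3 ≤ q ^ 4 := by rw [pow_succ' q 3]; exact Nat.mul_le_mul_right _ h4
        have h23 : 4 * q ^ 2 ≤ q ^ 3 := by rw [pow_succ' q 2]; exact Nat.mul_le_mul_right _ h4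
        omega
  · left
    have hE : ∑ z ∈ S, f z ≤ S.card * (n / 2 * q ^ (n / 2)) := by
      rw [← smul_eq_mul]
      refine Finset.sum_le_card_nsmul _ _ _ fun z hz => ?_
      obtain ⟨m, hm, hmn, hf⟩ := hgen z hz
      refine hf.trans ?_
      have hle : n / m ≤ n / 2 := Nat.div_le_div_left hm two_pos
      have hpos : 0 < n / m := Nat.div_pos (Nat.le_of_dvd (by omega) hmn) (by omega)
      exact Nat.mul_le_mul ((Nat.gcd_le_right _ hpos).trans hle) (Nat.pow_le_pow_right (by omega) hle)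
    rw [hS] at hE
    refine hE.trans ?_
    obtain ⟨t, ht⟩ : ∃ t, n - 2 = t + (1 + n / 2) := ⟨n - 2 - (1 + n / 2), by omega⟩
    have h3 : n / 2 ≤ t + 3 := by omega
    have h4 := half_le q hq3 t (by omega)
    calc (d - 1) * (n / 2 * q ^ (n / 2)) ≤ q * (2 * q ^ t * q ^ (n / 2)) :=
          Nat.mul_le_mul (by omega) (Nat.mul_le_mul_right _ (h3.trans h4))
      _ = 2 * q ^ (n - 2) := by rw [ht, pow_add, pow_add, pow_one]; ring

end CfsgLib.FgsC.PSLClasses
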